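import Groth.Agent.CycDesc28.Main
import Groth.Agent.DimLib.Points
import Groth.Agent.WeilLib.Counting
import Groth.Prelude.Def_ResDeg
import Mathlib.AlgebraicGeometry.AlgClosed.Basic
import Mathlib.FieldTheory.PrimitiveElement

/-!
# Geometric points over a closed point; descent of invariant zero-cycles
-/

set_option autoImplicit false
set_option linter.style.haveILetI false
set_option backward.isDefEq.respectTransparency.types false
set_option maxHeartbeats 800000

universe u

open CategoryTheory CategoryTheory.Limits AlgebraicGeometry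
open Groth.Agent.DimLib

namespace Groth.Agent.ZeroCyc24

variable {k : Type u} [Field k] [PerfectField k] {X : Scheme.{u}} (f : X ⟶ Spec (CommRingCat.of k))
  [LocallyOfFiniteType f]

local notation "Ω" => AlgebraicClosure k
local notation "bcmap" => Spec.map (CommRingCat.ofHom (algebraMap k (AlgebraicClosure k)))

theorem isIntegralHom_fst : IsIntegralHom (pullback.fst f bcmap) :=
  haveI : IsIntegralHom bcmap := IsIntegralHom.SpecMap_iff.2
    (algebraMap_isIntegral_iff.2 (inferInstance : Algebra.IsIntegral k Ω))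
  MorphismProperty.pullback_fst (P := @IsIntegralHom) _ _ inferInstance

theorem surjective_fst : Function.Surjective (pullback.fst f bcmap) :=
  haveI : Surjective bcmap := ⟨fun x => ⟨IsLocalRing.closedPoint _, Subsingleton.elim (α := PrimeSpectrum k) _ _⟩⟩
  haveI : Surjective (pullback.fst f bcmap) := MorphismProperty.pullback_fst (P := @Surjective) _ _ inferInstance
  (pullback.fst f bcmap).surjective

theorem isClosed_image {y : ↥(pullback f bcmap)} (hy : IsClosed ({y} : Set ↥(pullback f bcmap))) :
    IsClosed ({pullback.fst f bcmap y} : Set X) := by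
  haveI := isIntegralHom_fst f
  have := (pullback.fst f bcmap).isClosedMap _ hy
  rwa [Set.image_singleton] at this

/-- The geometric points over a closed point. -/
theorem fibre_card {x : X} (hx : IsClosed ({x} : Set X)) :
    (pullback.fst f bcmap ⁻¹' {x}).ncard = EGA4loc.residueDegree f x ∧
      (pullback.fst f bcmap ⁻¹' {x}).Finite ∧ ∀ y, pullback.fst f bcmap y = x → IsClosed ({y} : Set ↥(pullback f bcmap)) := by
  classical
  letI : Algebra k (X.residueField x) := (baseRingHom f x).toAlgebra
  haveI hfin : Module.Finite k (X.residueField x) := by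
    haveI : IsClosedImmersion (X.fromSpecResidueField x) := isClosed_singleton_iff_isClosedImmersion.1 hx
    have h1 : LocallyOfFiniteType (Spec.map (CommRingCat.ofHom (baseRingHom f x))) := by
      rw [show Spec.map (CommRingCat.ofHom (baseRingHom f x)) = X.fromSpecResidueField x ≫ f from Spec.map_preimage _]
      infer_instance
    haveI : Algebra.FiniteType k (X.residueField x) := (HasRingHomProperty.Spec_iff (P := @LocallyOfFiniteType)).1 h1
    exact finite_of_finite_type_of_isJacobsonRing k (X.residueField x)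
  haveI : Algebra.IsSeparable k (X.residueField x) := inferInstance
  have hb : Spec.map (CommRingCat.ofHom (baseRingHom f x)) = X.fromSpecResidueField x ≫ f := Spec.map_preimage _
  let g := pullback.snd f bcmap
  haveI : LocallyOfFiniteType g := inferInstance
  let pt : (X.residueField x →ₐ[k] Ω) → (Spec (CommRingCat.of Ω) ⟶ pullback f bcmap) := fun φ =>
    pullback.lift (Spec.map (CommRingCat.ofHom φ.toRingHom) ≫ X.fromSpecResidueField x) (𝟙 _) (by
      rw [Category.assoc, ← hb, Category.id_comp, ← Spec.map_comp]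
      exact congrArg (fun r => Spec.map (CommRingCat.ofHom r)) φ.comp_algebraMap)
  let o : Spec (CommRingCat.of Ω) := IsLocalRing.closedPoint Ω
  let Φ : (X.residueField x →ₐ[k] Ω) → ↥(pullback f bcmap) := fun φ => pt φ o
  have hΦx : ∀ φ, pullback.fst f bcmap (Φ φ) = x := fun φ => by
    show pullback.fst f bcmap (pt φ o) = x
    rw [← Scheme.Hom.comp_apply, show pt φ ≫ pullback.fst f bcmap = _ from pullback.lift_fst _ _ _,
      Scheme.Hom.comp_apply]
    exact Scheme.fromSpecResidueField_apply _ _
  have hsnd : ∀ φ, pt φ ≫ g = 𝟙 _ := fun φ => pullback.lift_snd _ _ _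
  have hclosedΦ : ∀ φ, IsClosed ({Φ φ} : Set ↥(pullback f bcmap)) := fun φ => by
    haveI : IsClosedImmersion (pt φ) := isClosedImmersion_of_comp_eq_id _ _ (hsnd φ)
    haveI : Subsingleton ↥(Spec (CommRingCat.of Ω)) := inferInstanceAs (Subsingleton (PrimeSpectrum Ω))
    have h := (pt φ).isClosedEmbedding.isClosed_range
    rwa [show Set.range (pt φ) = {Φ φ} from Set.ext fun z => ⟨fun ⟨w, hw⟩ => by
      rw [Subsingleton.elim w o] at hw; exact hw.symm, fun hz => ⟨o, hz.symm⟩⟩] at h
  obtain ⟨φ₀⟩ : Nonempty (X.residueField x →ₐ[k] Ω) := ⟨IsAlgClosed.lift⟩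
  have hall : ∀ y, pullback.fst f bcmap y = x → IsClosed ({y} : Set ↥(pullback f bcmap)) := fun y hy => by
    obtain ⟨σ, t, ht1, ht2, ht⟩ := CycDesc28.exists_auto (IsPullback.of_hasPullback f bcmap) (Φ φ₀) y
      ((hΦx φ₀).trans hy.symm)
    haveI := CycDesc28.isIso_of_auto (IsPullback.of_hasPullback f bcmap) σ t ht1 ht2
    rw [← ht, ← Set.image_singleton]
    exact t.homeomorph.isClosedMap _ (hclosedΦ φ₀)
  have hrange : pullback.fst f bcmap ⁻¹' {x} = Set.range Φ := by
    refine Set.ext fun y => ⟨fun hy => ?_, fun ⟨φ, hφ⟩ => hφ ▸ hΦx φ⟩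
    have hyc := hall y hy
    let s := pointOfClosedPoint g y hyc
    have hs : s ≫ g = 𝟙 _ := pointOfClosedPoint_comp _ y hyc
    have hso : s o = y := pointOfClosedPoint_apply _ _ _ _
    obtain ⟨ψ, hψ⟩ : ∃ ψ : X.residueField x ⟶ CommRingCat.of Ω,
        Spec.map ψ ≫ X.fromSpecResidueField x = s ≫ pullback.fst f bcmap := by
      have hx' : (s ≫ pullback.fst f bcmap) o = x := by rw [Scheme.Hom.comp_apply, hso]; exact hy
      subst hx'
      exact ⟨_, X.descResidueField_stalkClosedPointTo_fromSpecResidueField Ω _⟩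
    let φ : X.residueField x →ₐ[k] Ω :=
      { ψ.hom with
        commutes' := fun r => by
          have h1 : Spec.map (CommRingCat.ofHom (baseRingHom f x) ≫ ψ) = bcmap := by
            rw [Spec.map_comp, hb, ← Category.assoc, hψ, Category.assoc, pullback.condition, ← Category.assoc]
            rw [hs]
            exact Category.id_comp _
          exact RingHom.congr_fun (congrArg CommRingCat.Hom.hom (Spec.map_injective h1)) r }
    refine ⟨φ, ?_⟩
    have hpt : pt φ = s := pullback.hom_ext
      ((pullback.lift_fst _ _ _).trans hψ) ((pullback.lift_snd _ _ _).trans hs.symm)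
    show pt φ o = y
    rw [hpt, hso]
  have hinj : Function.Injective Φ := fun φ φ' h => by
    have heq : pt φ = pt φ' := ext_of_apply_closedPoint_eq g (hsnd φ) (hsnd φ') h
    have h1 : Spec.map (CommRingCat.ofHom φ.toRingHom) ≫ X.fromSpecResidueField x =
        Spec.map (CommRingCat.ofHom φ'.toRingHom) ≫ X.fromSpecResidueField x := by
      have := congrArg (· ≫ pullback.fst f bcmap) heq
      simp only [pt, pullback.lift_fst] at this
      exact this
    exact AlgHom.coe_ringHom_injective
      (congrArg CommRingCat.Hom.hom (Spec.map_injective ((cancel_mono _).1 h1)))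
  haveI : Finite (X.residueField x →ₐ[k] Ω) := inferInstance
  refine ⟨?_, hrange ▸ Set.finite_range Φ, hall⟩
  rw [hrange, ← Nat.card_coe_set_eq, Nat.card_range_of_injective hinj, Nat.card_eq_fintype_card, AlgHom.card,
    Groth.Agent.WeilLib.residueDegree_eq_rdeg f x]
  rfl

/-- Effective zero-cycles and Galois invariant ones on the geometric base change. -/
theorem bijOn_cycles
    (τ : (Ω ≃ₐ[k] Ω) → (pullback f bcmap ⟶ pullback f bcmap))
    (hτ1 : ∀ σ, τ σ ≫ pullback.fst f bcmap = pullback.fst f bcmap)
    (hτ2 : ∀ σ, τ σ ≫ pullback.snd f bcmap = pullback.snd f bcmap ≫ Spec.map (CommRingCat.ofHom (σ : Ω →+* Ω)))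
    (n : ℕ) :
    Set.BijOn (fun c : X → ℕ => c ∘ (pullback.fst f bcmap).base)
      {c : X → ℕ | (Function.support c).Finite ∧ (∀ x, c x ≠ 0 → IsClosed ({x} : Set X)) ∧
        ∑ᶠ x, c x * EGA4loc.residueDegree f x = n}
      {d : ↥(pullback f bcmap) → ℕ | (Function.support d).Finite ∧
        (∀ y, d y ≠ 0 → IsClosed ({y} : Set ↥(pullback f bcmap))) ∧
        ∑ᶠ y, d y = n ∧ ∀ σ y, d ((τ σ).base y) = d y} := by
  classical
  let p := pullback.fst f bcmap
  have hsum : ∀ (c : X → ℕ), (Function.support c).Finite → (∀ x, c x ≠ 0 → IsClosed ({x} : Set X)) →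
      (Function.support (c ∘ p.base)).Finite ∧ ∑ᶠ y, (c ∘ p.base) y = ∑ᶠ x, c x * EGA4loc.residueDegree f x := by
    intro c hc hcl
    have hsub : Function.support (c ∘ p.base) = ⋃ x ∈ Function.support c, p.base ⁻¹' {x} := by
      ext y
      simp
    have hfin : (Function.support (c ∘ p.base)).Finite := by
      rw [hsub]
      exact hc.biUnion fun x hx => (fibre_card f (hcl x hx)).2.1
    refine ⟨hfin, ?_⟩
    rw [finsum_eq_sum _ hfin, finsum_eq_sum_of_support_subset _ (s := hc.toFinset) (fun x hx => by
      simp only [Set.Finite.coe_toFinset]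
      exact left_ne_zero_of_mul hx)]
    rw [← Finset.sum_fiberwise_of_maps_to (g := p.base) (t := hc.toFinset) (fun y hy => by
      simpa using hy)]
    refine Finset.sum_congr rfl fun x hx => ?_
    have hx' : c x ≠ 0 := by simpa using hx
    have hset : hfin.toFinset.filter (fun y => p.base y = x) = (fibre_card f (hcl x hx')).2.1.toFinset := by
      ext y
      simp only [Finset.mem_filter, Set.Finite.mem_toFinset, Function.mem_support, Function.comp_apply,
        Set.mem_preimage, Set.mem_singleton_iff]
      exact ⟨fun h => h.2, fun h => ⟨by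
        show c (p y) ≠ 0
        rw [show p y = x from h]; exact hx', h⟩⟩
    rw [hset, Finset.sum_congr rfl (g := fun _ => c x) fun y hy => by
      have hy' : p.base y = x := (Set.Finite.mem_toFinset (s := p.base ⁻¹' {x}) _).1 hy
      exact congrArg c hy',
      Finset.sum_const, smul_eq_mul, mul_comm, ← Set.ncard_eq_toFinset_card _ (fibre_card f (hcl x hx')).2.1,
      (fibre_card f (hcl x hx')).1]
  refine ⟨?_, ?_, ?_⟩
  · rintro c ⟨hc, hcl, hn⟩
    obtain ⟨h1, h2⟩ := hsum c hc hcl
    refine ⟨h1, fun y hy => (fibre_card f (hcl _ hy)).2.2 y rfl, h2.trans hn, fun σ y => ?_⟩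
    show c (p ((τ σ) y)) = c (p y)
    rw [← Scheme.Hom.comp_apply, hτ1]
  · intro c _ c' _ h
    funext x
    obtain ⟨y, rfl⟩ := surjective_fst f x
    exact congrFun h y
  · rintro d ⟨hd, hdcl, hn, hinv⟩
    choose y hy using surjective_fst f
    have hdc : ∀ z, d (y (p z)) = d z := fun z => by
      obtain ⟨σ, t, ht1, ht2, ht⟩ := CycDesc28.exists_auto (IsPullback.of_hasPullback f bcmap) z (y (p z)) (hy _).symm
      have : t = τ σ := pullback.hom_ext (ht1.trans (hτ1 σ).symm) (ht2.trans (hτ2 σ).symm)
      rw [← ht, this]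
      exact hinv σ z
    refine ⟨fun x => d (y x), ?_, funext hdc⟩
    have hfin : (Function.support fun x => d (y x)).Finite :=
      (hd.image p.base).subset fun x hx => ⟨y x, hx, hy x⟩
    have hcl : ∀ x, d (y x) ≠ 0 → IsClosed ({x} : Set X) := fun x hx => hy x ▸ isClosed_image f (hdcl _ hx)
    refine ⟨hfin, hcl, ?_⟩
    rw [← (hsum _ hfin hcl).2, ← hn]
    exact finsum_congr hdc

end Groth.Agent.ZeroCyc24
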